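import Groth.Agent.Lib.Lead.Curve.Euler
import Groth.Agent.Lib.Lead.SC.SuppDim0
import Groth.Agent.Lib.Lead.QC.SuppSES
import Groth.Agent.Lib.Lead.PF.ProjFinite

/-! # Euler characteristic of coherent modules with zero-dimensional support. -/

set_option autoImplicit false
universe u
open CategoryTheory Limits AlgebraicGeometry TopologicalSpace Opposite

namespace Groth.Agent.LD.Curve

open Groth.Agent.LD

section

variable {X : Scheme.{u}}

/-- a module of finite type whose support consists of closed points and which has no nonzero
global section is zero (locally Noetherian case). -/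
theorem isZero_of_support_closed_points_of_sections [IsLocallyNoetherian X] (T : X.Modules)
    (hT : T.IsFiniteType)
    (hpt : ∀ x : X, ¬ Subsingleton (T.presheaf.stalk x) → IsClosed ({x} : Set X))
    (h0 : ∀ s : Γ(T, ⊤), s = 0) : IsZero T := by
  have hZ : IsClosed {x : X | ¬ Subsingleton (T.presheaf.stalk x)} :=
    QC.isClosed_support_of_isFiniteType T hT
  haveI := SC.isFlasque_of_support_closed_points T hZ hpt
  apply QC.isZero_of_support_eq_empty
  rw [Set.eq_empty_iff_forall_notMem]
  intro x hx
  apply hx
  refine subsingleton_of_forall_eq 0 (fun t => ?_)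
  obtain ⟨V, hxV, s, rfl⟩ := TopCat.Presheaf.exists_germ_eq (F := T.presheaf) (x := x) t
  have hepi : Epi ((Coh.toAb T).obj.map (homOfLE (le_top : V ≤ ⊤)).op) :=
    TopCat.Presheaf.IsFlasque.epi _
  rw [AddCommGrpCat.epi_iff_surjective] at hepi
  obtain ⟨g, hg⟩ := hepi s
  have hg0 : g = 0 := h0 g
  subst hg0
  rw [← hg]
  change T.presheaf.germ V x hxV (T.presheaf.map (homOfLE (le_top : V ≤ ⊤)).op 0) = 0
  rw [map_zero, map_zero]

end

variable (k : Type u) [Field k] (X : Scheme.{u}) [X.Over (Spec (CommRingCat.of k))]
  [IsProper (X ↘ Spec (CommRingCat.of k))]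

include k in
lemma isLocallyNoetherian : IsLocallyNoetherian X :=
  LocallyOfFiniteType.isLocallyNoetherian (X ↘ Spec (CommRingCat.of k))

/-- the Euler characteristic of a coherent module supported at closed points is `dim H⁰`. -/
theorem euler_of_support_closed_points (T : X.Modules) (hT : Coh.IsCoh T)
    (hpt : ∀ x : X, ¬ Subsingleton (T.presheaf.stalk x) → IsClosed ({x} : Set X)) :
    Curv2.euler k X T = (Module.finrank k (Coh.HH X T 0) : ℤ) := by
  haveI := isLocallyNoetherian k X
  have hZ : IsClosed {x : X | ¬ Subsingleton (T.presheaf.stalk x)} :=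
    QC.isClosed_support_of_isFiniteType T hT.2
  rw [euler_eq_sum k X T 0 (fun p hp => by
    obtain ⟨n, rfl⟩ : ∃ n, p = n + 1 := ⟨p - 1, by omega⟩
    exact SC.subsingleton_HH_of_support_closed_points T hZ hpt n)]
  simp

/-- a coherent module supported at closed points with vanishing Euler characteristic is zero. -/
theorem isZero_of_euler_eq_zero (T : X.Modules) (hT : Coh.IsCoh T)
    (hpt : ∀ x : X, ¬ Subsingleton (T.presheaf.stalk x) → IsClosed ({x} : Set X))
    (h : Curv2.euler k X T = 0) : IsZero T := by
  haveI := isLocallyNoetherian k X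
  rw [euler_of_support_closed_points k X T hT hpt] at h
  haveI := finite_HH k X T hT 0
  have h' : Module.finrank k (Coh.HH X T 0) = 0 := by exact_mod_cast h
  haveI : Subsingleton (Coh.HH X T 0) := Module.finrank_zero_iff.mp h'
  apply isZero_of_support_closed_points_of_sections T hT.2 hpt
  intro s
  have := (PF.H0LinearEquivΓ k T).symm.injective
    (Subsingleton.elim ((PF.H0LinearEquivΓ k T).symm s) ((PF.H0LinearEquivΓ k T).symm 0))
  exact this

/-- the Euler characteristic of a coherent module supported at closed points is nonnegative. -/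
theorem euler_nonneg_of_support_closed_points (T : X.Modules) (hT : Coh.IsCoh T)
    (hpt : ∀ x : X, ¬ Subsingleton (T.presheaf.stalk x) → IsClosed ({x} : Set X)) :
    0 ≤ Curv2.euler k X T := by
  rw [euler_of_support_closed_points k X T hT hpt]
  exact Int.natCast_nonneg _

end Groth.Agent.LD.Curve
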