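import Groth.Agent.Lib.Lead.Curve.Dim1
import Groth.Agent.Lib.Lead.Curve.Torsion

/-! # Cohomology of coherent modules on proper schemes of dimension `≤ 1` over a field. -/

set_option autoImplicit false
universe u
open CategoryTheory Limits Opposite AlgebraicGeometry TopologicalSpace Order

namespace Groth.Agent.LD.Curve

open Groth.Agent.LD

section Top

variable {T : Type*} [TopologicalSpace T] [QuasiSober T] [T0Space T]

attribute [local instance] specializationOrder

lemma topologicalKrullDim_eq_iSup_coheight :
    topologicalKrullDim T = ⨆ x : T, (coheight x : WithBot ℕ∞) := by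
  unfold topologicalKrullDim
  rw [krullDim_eq_of_orderIso (irreducibleSetEquivPoints (α := T)), krullDim_eq_iSup_coheight]

end Top

/-- the dimension of a local ring is at most the dimension of the scheme. -/
theorem ringKrullDim_stalk_le (X : Scheme.{u}) (x : X) :
    ringKrullDim (X.presheaf.stalk x) ≤ topologicalKrullDim X := by
  rw [ringKrullDim_stalk_eq_coheight, topologicalKrullDim_eq_iSup_coheight]
  exact le_iSup (fun x : X => (coheight x : WithBot ℕ∞)) x

variable (k : Type u) [Field k] (X : Scheme.{u}) [X.Over (Spec (CommRingCat.of k))]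
  [IsProper (X ↘ Spec (CommRingCat.of k))]

include k in
/-- **`Hᵖ(X, M) = 0` for `p ≥ 2`** on a proper scheme of dimension `≤ 1` over a field. -/
theorem subsingleton_HH_of_two_le (hdim : topologicalKrullDim X ≤ 1)
    (M : X.Modules) [M.IsQuasicoherent] (p : ℕ) (hp : 2 ≤ p) : Subsingleton (Coh.HH X M p) := by
  haveI := isLocallyNoetherian k X
  haveI := compactSpace k X
  exact subsingleton_HH_dim_le_one (fun x => (ringKrullDim_stalk_le X x).trans hdim) M p hp

/-- `χ = h⁰ - h¹` in dimension `≤ 1`. -/
theorem euler_eq_sub (hdim : topologicalKrullDim X ≤ 1) (M : X.Modules) [M.IsQuasicoherent] :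
    Curv2.euler k X M = (Module.finrank k (Coh.HH X M 0) : ℤ) - Module.finrank k (Coh.HH X M 1) := by
  rw [euler_eq_sum k X M 1 (fun p hp => subsingleton_HH_of_two_le k X hdim M p (by omega))]
  simp [Finset.sum_range_succ]
  ring

end Groth.Agent.LD.Curve
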