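import Groth.Agent.H4.SPt6
import Groth.Agent.H4.LFP1
import Groth.Agent.Lib.Lead.Curve.Proper

/-! # Generic stalks on integral schemes; points of an integral scheme of dimension `≤ 1`. -/

set_option autoImplicit false
universe u
open CategoryTheory Limits Opposite AlgebraicGeometry TopologicalSpace Order

namespace Groth.Agent.LD.Curve

open Groth.Agent.LD Groth.Agent.LD.QC

variable {X : Scheme.{u}} [IsIntegral X]

/-- in an integral scheme of dimension `≤ 1` every point other than the generic point is closed. -/
theorem isClosed_singleton_of_ne_genericPoint (hdim : topologicalKrullDim X ≤ 1) (y : X)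
    (hy : y ≠ genericPoint X) : IsClosed ({y} : Set X) := by
  rw [topologicalKrullDim, Order.krullDim_le_one_iff] at hdim
  rw [← closure_subset_iff_isClosed]
  intro z hz
  by_contra hzy
  have hzy' : z ≠ y := hzy
  let Zy : IrreducibleCloseds X := ⟨closure {y}, isIrreducible_singleton.closure, isClosed_closure⟩
  let Zz : IrreducibleCloseds X := ⟨closure {z}, isIrreducible_singleton.closure, isClosed_closure⟩
  let Xt : IrreducibleCloseds X := ⟨Set.univ, IrreducibleSpace.isIrreducible_univ X, isClosed_univ⟩
  rcases hdim Zy with hmin | hmax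
  · have hle : Zz ≤ Zy := by
      intro t ht
      exact (closure_minimal (Set.singleton_subset_iff.2 hz) isClosed_closure) ht
    have h2 := hmin hle
    have h3 : y ∈ closure ({z} : Set X) := h2 (subset_closure rfl : y ∈ closure ({y} : Set X))
    have h4 : z ⤳ y := specializes_iff_mem_closure.2 h3
    have h5 : y ⤳ z := specializes_iff_mem_closure.2 hz
    exact hzy' (h4.antisymm h5).eq
  · have hle : Zy ≤ Xt := fun t _ => Set.mem_univ t
    have h2 := hmax hle
    have h3 : genericPoint X ∈ closure ({y} : Set X) := h2 (Set.mem_univ _)
    have h4 : y ⤳ genericPoint X := specializes_iff_mem_closure.2 h3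
    exact hy (h4.antisymm (genericPoint_specializes y)).eq

/-- a module with vanishing generic stalk is supported at closed points (dimension `≤ 1`). -/
theorem isClosed_singleton_of_stalk (hdim : topologicalKrullDim X ≤ 1) (T : X.Modules)
    (hη : Subsingleton (T.presheaf.stalk (genericPoint X))) (x : X)
    (hx : ¬ Subsingleton (T.presheaf.stalk x)) : IsClosed ({x} : Set X) := by
  apply isClosed_singleton_of_ne_genericPoint hdim
  rintro rfl
  exact hx hη

/-- the cokernel of a monomorphism of finite locally free modules of the same rank has vanishing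
generic stalk. -/
theorem subsingleton_stalk_cokernel (r : ℕ) {G E : X.Modules}
    (hG : FlatMod.IsFinLocFreeOfRank r G) (hE : FlatMod.IsFinLocFreeOfRank r E)
    (i : G ⟶ E) [Mono i] :
    Subsingleton ((cokernel i).presheaf.stalk (genericPoint X)) := by
  set η := genericPoint X
  let Φ := DerSch.stalkFunctor X η
  obtain ⟨hGfree, hGfin, hGrk⟩ := Groth.Agent.H4.LFP1.stalk_of_isFinLocFreeOfRank r G hG η
  obtain ⟨hEfree, hEfin, hErk⟩ := Groth.Agent.H4.LFP1.stalk_of_isFinLocFreeOfRank r E hE η
  have hmono : Mono (Φ.map i) := inferInstance
  have hinj : Function.Injective (Φ.map i).hom := (ModuleCat.mono_iff_injective _).mp hmono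
  have hsurj : Function.Surjective (Φ.map i).hom := by
    haveI : Module.Finite (X.presheaf.stalk η) (Φ.obj G) := hGfin
    haveI : Module.Finite (X.presheaf.stalk η) (Φ.obj E) := hEfin
    refine (LinearMap.injective_iff_surjective_of_finrank_eq_finrank ?_).mp hinj
    exact hGrk.trans hErk.symm
  have hepi : Epi (Φ.map i) := (ModuleCat.epi_iff_surjective _).mpr hsurj
  have hz : IsZero (Φ.obj (cokernel i)) := by
    have e := PreservesCokernel.iso Φ i
    refine IsZero.of_iso ?_ e
    exact isZero_cokernel_of_epi _
  exact ModuleCat.isZero_iff_subsingleton.mp hz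

end Groth.Agent.LD.Curve
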