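import Groth.Agent.Lib.Lead.Curve.DegMono
import Groth.Agent.Lib.Lead.QC.InvIntegral
import Groth.Agent.Lib.Lead.QC.SubExt
import Groth.Agent.Lib.Lead.QC.FiniteFree

/-! # Nonzero maps of invertible modules on integral schemes are monomorphisms; degrees of
invertible modules on integral proper curves (S1518, S1520, S1521). -/

set_option autoImplicit false
universe u
open CategoryTheory Limits Opposite AlgebraicGeometry TopologicalSpace Order

namespace Groth.Agent.LD.Curve

open Groth.Agent.LD Groth.Agent.LD.QC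

section

variable {X : Scheme.{u}} [IsIntegral X]

/-- a nonzero morphism of invertible modules on an integral scheme is a monomorphism. -/
theorem mono_of_ne_zero {N L : X.Modules} (hN : PicF.IsInvertible N) (hL : PicF.IsInvertible L)
    (φ : N ⟶ L) (hφ : φ ≠ 0) : Mono φ := by
  have hN' := (isInvertible_iff_exists_isBasisOver N).mp hN
  have hL' := (isInvertible_iff_exists_isBasisOver L).mp hL
  apply mono_of_injective_app
  intro W
  rw [injective_iff_map_eq_zero]
  intro ℓ hℓ
  apply section_eq_zero_of_germ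
  intro y hy
  obtain ⟨U₁, e₁, hy₁, he₁⟩ := hN' y
  obtain ⟨U₂, e₂, hy₂, he₂⟩ := hL' y
  let V : X.Opens := W ⊓ U₁ ⊓ U₂
  have hyV : y ∈ V := ⟨⟨hy, hy₁⟩, hy₂⟩
  have hVW : V ≤ W := inf_le_left.trans inf_le_left
  have hV₁ : V ≤ U₁ := inf_le_left.trans inf_le_right
  have hV₂ : V ≤ U₂ := inf_le_right
  haveI : Nonempty V := ⟨⟨y, hyV⟩⟩
  haveI : IsDomain Γ(X, V) := IsIntegral.component_integral V
  have hg := TopCat.Presheaf.germ_res_apply N.presheaf (homOfLE hVW) y hyV ℓ
  rw [← hg]
  suffices h0 : N.presheaf.map (homOfLE hVW).op ℓ = 0 by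
    rw [h0]; exact map_zero (N.presheaf.germ V y hyV).hom
  obtain ⟨b, hb⟩ := (he₁ V hV₁).2 (N.presheaf.map (homOfLE hVW).op ℓ)
  have hb' : b • N.presheaf.map (homOfLE hV₁).op e₁ = N.presheaf.map (homOfLE hVW).op ℓ := hb
  obtain ⟨c, hc⟩ := (he₂ V hV₂).2 (φ.app V (N.presheaf.map (homOfLE hV₁).op e₁))
  have hc' : c • L.presheaf.map (homOfLE hV₂).op e₂ =
      φ.app V (N.presheaf.map (homOfLE hV₁).op e₁) := hc
  have hc0 : c ≠ 0 := by
    rintro rfl
    apply hφ
    refine hom_eq_zero_of_app_basis_eq_zero hN hL φ (U := V) ⟨y, hyV⟩ (he₁.mono hV₁) ?_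
    rw [← hc', zero_smul]
  have h1 : φ.app V (N.presheaf.map (homOfLE hVW).op ℓ) = 0 := by
    rw [app_res φ hVW ℓ, hℓ]
    exact map_zero (L.presheaf.map (homOfLE hVW).op).hom
  rw [← hb', Scheme.Modules.Hom.app_smul, ← hc', ← mul_smul] at h1
  have h2 : b * c = 0 := (he₂.mono hV₂).coeff_eq_zero le_rfl (b * c) (by
    rw [res_self]; exact h1)
  rcases mul_eq_zero.mp h2 with hb0 | hc0'
  · rw [← hb', hb0, zero_smul]
  · exact absurd hc0' hc0

end

variable (k : Type u) [Field k] (X : Scheme.{u}) [X.Over (Spec (CommRingCat.of k))]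
  [IsProper (X ↘ Spec (CommRingCat.of k))] [IsIntegral X]

/-- **S1521** -/
theorem deg_le_of_ne_zero (hdim : topologicalKrullDim X ≤ 1) {N L : X.Modules}
    (hN : PicF.IsInvertible N) (hL : PicF.IsInvertible L) (φ : N ⟶ L) (hφ : φ ≠ 0) :
    Curv2.deg k X N 1 ≤ Curv2.deg k X L 1 ∧
      (Curv2.deg k X N 1 = Curv2.deg k X L 1 → IsIso φ) := by
  haveI := mono_of_ne_zero hN hL φ hφ
  exact deg_le_of_mono k X hdim 1 ((isInvertible_iff N).mp hN) ((isInvertible_iff L).mp hL) φ

lemma isInvertible_structureModule (Y : Scheme.{u}) : PicF.IsInvertible (Coh.structureModule Y) :=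
  isInvertible_unit Y

lemma deg_structureModule : Curv2.deg k X (Coh.structureModule X) 1 = 0 := by
  unfold Curv2.deg
  push_cast
  ring

end Groth.Agent.LD.Curve
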