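import Groth.Agent.Lib.Lead.Curve.DegMono

/-! # Additivity of ranks of finite locally free modules in short exact sequences (S7643). -/

set_option autoImplicit false
universe u
open CategoryTheory Limits Opposite AlgebraicGeometry TopologicalSpace

namespace Groth.Agent.LD.Curve

open Groth.Agent.LD Groth.Agent.LD.QC

/-- ranks of free modules are additive in short exact sequences. -/
lemma finrank_eq_add_of_exact {R : Type*} [CommRing R] [Nontrivial R] {M₁ M₂ M₃ : Type*}
    [AddCommGroup M₁] [AddCommGroup M₂] [AddCommGroup M₃] [Module R M₁] [Module R M₂] [Module R M₃]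
    [Module.Free R M₁] [Module.Finite R M₁] [Module.Free R M₃] [Module.Finite R M₃]
    (f : M₁ →ₗ[R] M₂) (g : M₂ →ₗ[R] M₃) (hf : Function.Injective f) (hg : Function.Surjective g)
    (hfg : ∀ y, g y = 0 → ∃ x, f x = y) (hgf : ∀ x, g (f x) = 0) :
    Module.finrank R M₂ = Module.finrank R M₁ + Module.finrank R M₃ := by
  obtain ⟨s, hs⟩ := g.exists_rightInverse_of_surjective (LinearMap.range_eq_top.2 hg)
  have hs' : ∀ z, g (s z) = z := fun z => LinearMap.congr_fun hs z
  have hbij : Function.Bijective (f.coprod s) := by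
    constructor
    · rw [injective_iff_map_eq_zero]
      rintro ⟨x, z⟩ h
      rw [LinearMap.coprod_apply] at h
      have hz : z = 0 := by
        have := congrArg g h
        rw [map_add, hgf, hs', zero_add, map_zero] at this
        exact this
      subst hz
      rw [map_zero, add_zero] at h
      have hx : x = 0 := hf (h.trans (map_zero f).symm)
      subst hx
      rfl
    · intro y
      obtain ⟨x, hx⟩ := hfg (y - s (g y)) (by rw [map_sub, hs', sub_self])
      refine ⟨(x, g y), ?_⟩
      rw [LinearMap.coprod_apply, hx]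
      abel
  rw [← (LinearEquiv.ofBijective (f.coprod s) hbij).finrank_eq, Module.finrank_prod]

section

variable {X : Scheme.{u}}

/-- ranks are additive in short exact sequences of finite locally free modules (at a point). -/
theorem rank_add_of_shortExact (S : ShortComplex X.Modules) (hS : S.ShortExact)
    (n₁ n₂ n₃ : ℕ) (h₁ : FlatMod.IsFinLocFreeOfRank n₁ S.X₁)
    (h₂ : FlatMod.IsFinLocFreeOfRank n₂ S.X₂) (h₃ : FlatMod.IsFinLocFreeOfRank n₃ S.X₃) (x : X) :
    n₂ = n₁ + n₃ := by
  let Φ := DerSch.stalkFunctor X x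
  obtain ⟨f1, fin1, rk1⟩ := Groth.Agent.H4.LFP1.stalk_of_isFinLocFreeOfRank n₁ S.X₁ h₁ x
  obtain ⟨f2, fin2, rk2⟩ := Groth.Agent.H4.LFP1.stalk_of_isFinLocFreeOfRank n₂ S.X₂ h₂ x
  obtain ⟨f3, fin3, rk3⟩ := Groth.Agent.H4.LFP1.stalk_of_isFinLocFreeOfRank n₃ S.X₃ h₃ x
  have hS' : (S.map Φ).ShortExact := hS.map_of_exact Φ
  have hinj : Function.Injective (Φ.map S.f).hom :=
    (ModuleCat.mono_iff_injective _).mp hS'.mono_f
  have hsurj : Function.Surjective (Φ.map S.g).hom :=
    (ModuleCat.epi_iff_surjective _).mp hS'.epi_g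
  have hex := (ShortComplex.ShortExact.moduleCat_exact_iff_function_exact _).mp hS'.exact
  haveI : Module.Free (X.presheaf.stalk x) (Φ.obj S.X₁) := f1
  haveI : Module.Finite (X.presheaf.stalk x) (Φ.obj S.X₁) := fin1
  haveI : Module.Free (X.presheaf.stalk x) (Φ.obj S.X₃) := f3
  haveI : Module.Finite (X.presheaf.stalk x) (Φ.obj S.X₃) := fin3
  have h := finrank_eq_add_of_exact (Φ.map S.f).hom (Φ.map S.g).hom hinj hsurj
    (fun y hy => (hex y).mp hy) (fun z => (hex _).mpr ⟨z, rfl⟩)
  rw [← rk1, ← rk2, ← rk3]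
  exact h

end

variable (k : Type u) [Field k] (X : Scheme.{u}) [X.Over (Spec (CommRingCat.of k))]
  [IsProper (X ↘ Spec (CommRingCat.of k))]

/-- **S7643**: degrees are additive in short exact sequences of finite locally free modules. -/
theorem deg_add_of_shortExact (S : ShortComplex X.Modules) (hS : S.ShortExact)
    (n₁ n₂ n₃ : ℕ) (h₁ : FlatMod.IsFinLocFreeOfRank n₁ S.X₁)
    (h₂ : FlatMod.IsFinLocFreeOfRank n₂ S.X₂) (h₃ : FlatMod.IsFinLocFreeOfRank n₃ S.X₃) :
    Curv2.deg k X S.X₂ n₂ = Curv2.deg k X S.X₁ n₁ + Curv2.deg k X S.X₃ n₃ := by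
  rcases isEmpty_or_nonempty X with he | ⟨⟨x⟩⟩
  · have hz : ∀ M : X.Modules, Curv2.euler k X M = 0 := by
      intro M
      apply euler_of_isZero
      apply isZero_of_forall_sections
      intro U s
      apply section_eq_zero_of_germ
      intro y _
      exact (he.false y).elim
    unfold Curv2.deg
    rw [hz, hz, hz, hz]
    ring
  · obtain rfl := rank_add_of_shortExact S hS n₁ n₂ n₃ h₁ h₂ h₃ x
    exact deg_add k X S hS (isCoh_of_rank h₁) (isCoh_of_rank h₂) (isCoh_of_rank h₃) n₁ n₃

end Groth.Agent.LD.Curve
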