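import Groth.Agent.Lib.Lead.Curve.Rank
import Groth.Agent.Lib.Lead.QC.SerreSupp
import Groth.Agent.Lib.Lead.QC.LocFree

/-! # Degrees of finite locally free modules on proper curves: additivity and monotonicity. -/

set_option autoImplicit false
universe u
open CategoryTheory Limits Opposite AlgebraicGeometry TopologicalSpace Order

namespace Groth.Agent.LD.Curve

open Groth.Agent.LD Groth.Agent.LD.QC

theorem isFinLocFree_of_rank {X : Scheme.{u}} {n : ℕ} {M : X.Modules}
    (h : FlatMod.IsFinLocFreeOfRank n M) : FlatMod.IsFinLocFree M := fun x => by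
  obtain ⟨U, hxU, e⟩ := h x
  exact ⟨U, n, hxU, e⟩

theorem isCoh_of_isFinLocFree {X : Scheme.{u}} {M : X.Modules} (h : FlatMod.IsFinLocFree M) :
    Coh.IsCoh M := by
  haveI := isFinitePresentation_of_isFinLocFree M h
  exact ⟨qc_of_isFinLocFree M h, inferInstance⟩

theorem isCoh_of_rank {X : Scheme.{u}} {n : ℕ} {M : X.Modules}
    (h : FlatMod.IsFinLocFreeOfRank n M) : Coh.IsCoh M :=
  isCoh_of_isFinLocFree (isFinLocFree_of_rank h)

variable (k : Type u) [Field k] (X : Scheme.{u}) [X.Over (Spec (CommRingCat.of k))]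
  [IsProper (X ↘ Spec (CommRingCat.of k))]

/-- **additivity of the degree** in short exact sequences of coherent modules, with ranks
`r₂ = r₁ + r₃`. -/
theorem deg_add (S : ShortComplex X.Modules) (hS : S.ShortExact)
    (h₁ : Coh.IsCoh S.X₁) (h₂ : Coh.IsCoh S.X₂) (h₃ : Coh.IsCoh S.X₃) (r₁ r₃ : ℕ) :
    Curv2.deg k X S.X₂ (r₁ + r₃) = Curv2.deg k X S.X₁ r₁ + Curv2.deg k X S.X₃ r₃ := by
  unfold Curv2.deg
  rw [euler_add k X S hS h₁ h₂ h₃]
  push_cast
  ring

/-- the degree of a quotient with zero-dimensional kernel ... general form: if `0 → G → E → T → 0`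
is exact with `T` supported at closed points then `χ(E) = χ(G) + h⁰(T)`. -/
theorem euler_eq_add_of_support_closed_points (S : ShortComplex X.Modules) (hS : S.ShortExact)
    (h₁ : Coh.IsCoh S.X₁) (h₂ : Coh.IsCoh S.X₂) (h₃ : Coh.IsCoh S.X₃)
    (hpt : ∀ x : X, ¬ Subsingleton (S.X₃.presheaf.stalk x) → IsClosed ({x} : Set X)) :
    Curv2.euler k X S.X₂ = Curv2.euler k X S.X₁ + (Module.finrank k (Coh.HH X S.X₃ 0) : ℤ) := by
  rw [euler_add k X S hS h₁ h₂ h₃, euler_of_support_closed_points k X S.X₃ h₃ hpt]

variable [IsIntegral X]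

/-- **monotonicity of the degree**: a monomorphism of finite locally free modules of the same rank
on an integral proper curve does not decrease the degree, and it is an isomorphism when the
degrees agree. -/
theorem deg_le_of_mono (hdim : topologicalKrullDim X ≤ 1) (r : ℕ) {G E : X.Modules}
    (hG : FlatMod.IsFinLocFreeOfRank r G) (hE : FlatMod.IsFinLocFreeOfRank r E)
    (i : G ⟶ E) [Mono i] :
    Curv2.deg k X G r ≤ Curv2.deg k X E r ∧ (Curv2.deg k X G r = Curv2.deg k X E r → IsIso i) := by
  have hGc := isCoh_of_rank hG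
  have hEc := isCoh_of_rank hE
  have hTc : Coh.IsCoh (cokernel i) := isCoh_cokernel i hGc hEc
  let S : ShortComplex X.Modules := ShortComplex.mk i (cokernel.π i) (cokernel.condition i)
  have hS : S.ShortExact :=
    { exact := ShortComplex.exact_cokernel i
      mono_f := inferInstanceAs (Mono i)
      epi_g := inferInstanceAs (Epi (cokernel.π i)) }
  have hη := subsingleton_stalk_cokernel r hG hE i
  have hpt : ∀ x : X, ¬ Subsingleton ((cokernel i).presheaf.stalk x) → IsClosed ({x} : Set X) :=
    fun x hx => isClosed_singleton_of_stalk hdim (cokernel i) hη x hx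
  have hχ : Curv2.euler k X E = Curv2.euler k X G + Curv2.euler k X (cokernel i) :=
    euler_add k X S hS hGc hEc hTc
  have hnn := euler_nonneg_of_support_closed_points k X (cokernel i) hTc hpt
  constructor
  · unfold Curv2.deg
    linarith
  · intro heq
    have h0 : Curv2.euler k X (cokernel i) = 0 := by
      unfold Curv2.deg at heq
      linarith
    have hz := isZero_of_euler_eq_zero k X (cokernel i) hTc hpt h0
    haveI : Epi i := Preadditive.epi_of_isZero_cokernel i hz
    exact isIso_of_mono_of_epi i

end Groth.Agent.LD.Curve
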