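import Groth.Agent.Lib.Lead.SC.Dim1Open
import Groth.Agent.Lib.Lead.SC.CohDim

/-! # Quasi-coherent cohomology vanishes in degrees `≥ 2` in dimension `≤ 1`. -/

set_option autoImplicit false
universe u
open CategoryTheory Limits Opposite Abelian AlgebraicGeometry TopologicalSpace

namespace Groth.Agent.LD.Curve

open Groth.Agent.LD Groth.Agent.LD.SC Groth.Agent.LD.QC

variable {X : Scheme.{u}}

/-- cohomology of a quasi-coherent module over `S ∩ V`, `V` affine, `S` retrocompact, vanishes in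
positive degrees when the local rings are Noetherian of dimension `≤ 1`. -/
theorem subsingleton_ext_inf_affine
    (hX : ∀ x : X, IsNoetherianRing (X.presheaf.stalk x) ∧ ringKrullDim (X.presheaf.stalk x) ≤ 1)
    (S : X.Opens) [QuasiCompact S.ι] (V : X.Opens) (hV : IsAffineOpen V)
    (M : X.Modules) [M.IsQuasicoherent] (j : ℕ) :
    Subsingleton (Ext (ZU (JX X) (S ⊓ V)) (Coh.toAb M) (j + 1)) := by
  haveI : (M.restrict S.ι).IsQuasicoherent := qc_restrict _ M
  haveI : ((M.restrict S.ι).restrict (S.ι ⁻¹ᵁ V).ι).IsQuasicoherent := qc_restrict _ _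
  have h := subsingleton_HH_preimage_dim_le_one hX S V hV
    ((M.restrict S.ι).restrict (S.ι ⁻¹ᵁ V).ι) j
  obtain ⟨e2⟩ := HH_restrict_equiv (S.ι ⁻¹ᵁ V).ι (M.restrict S.ι) (j + 1)
  rw [Scheme.Opens.opensRange_ι] at e2
  obtain ⟨e3⟩ := ext_resAb_equiv S.ι (j + 1) (Coh.toAb M) (S.ι ⁻¹ᵁ V)
  have himg : S.ι ''ᵁ (S.ι ⁻¹ᵁ V) = S ⊓ V := by
    rw [Scheme.Hom.image_preimage_eq_opensRange_inf, Scheme.Opens.opensRange_ι]
  rw [himg] at e3
  haveI := h
  haveI : Subsingleton (Ext (ZU (JX S.toScheme) (S.ι ⁻¹ᵁ V)) ((resAb S.ι).obj (Coh.toAb M)) (j + 1)) :=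
    e2.symm.toEquiv.subsingleton
  exact e3.symm.toEquiv.subsingleton

/-- **vanishing in degrees `≥ 2`** over quasi-compact opens. -/
theorem subsingleton_ext_dim_le_one [IsLocallyNoetherian X]
    (hX : ∀ x : X, ringKrullDim (X.presheaf.stalk x) ≤ 1)
    (S : X.Opens) (hS : IsCompact (S : Set X)) (M : X.Modules) [M.IsQuasicoherent] (p : ℕ) :
    Subsingleton (Ext (ZU (JX X) S) (Coh.toAb M) (p + 2)) := by
  have hX' : ∀ x : X, IsNoetherianRing (X.presheaf.stalk x) ∧
      ringKrullDim (X.presheaf.stalk x) ≤ 1 := fun x => ⟨inferInstance, hX x⟩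
  refine compact_open_induction_on (P := fun S => ∀ p : ℕ,
    Subsingleton (Ext (ZU (JX X) S) (Coh.toAb M) (p + 2))) S hS ?_ ?_ p
  · exact fun p => subsingleton_of_forall_eq 0 fun ξ => ext_bot_eq_zero ξ
  · intro S hS U ih p
    apply subsingleton_ext_sup
    · exact ih p
    · exact subsingleton_ext_of_isAffineOpen M (p + 1) U.1 U.2
    · exact subsingleton_ext_inf_affine hX' S U.1 U.2 M p

/-- **vanishing of quasi-coherent cohomology in degrees `≥ 2`** on a quasi-compact locally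
Noetherian scheme of dimension `≤ 1`. -/
theorem subsingleton_HH_dim_le_one [IsLocallyNoetherian X] [CompactSpace X]
    (hX : ∀ x : X, ringKrullDim (X.presheaf.stalk x) ≤ 1)
    (M : X.Modules) [M.IsQuasicoherent] (p : ℕ) (hp : 2 ≤ p) :
    Subsingleton (Coh.HH X M p) := by
  obtain ⟨n, rfl⟩ : ∃ n, p = n + 2 := ⟨p - 2, by omega⟩
  exact subsingleton_H_of_subsingleton_ext (J := JX X) isTerminalTop (Coh.toAb M) (n + 2)
    (subsingleton_ext_dim_le_one hX ⊤ isCompact_univ M n)

end Groth.Agent.LD.Curve
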