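import Groth.Agent.S0002
import Groth.Agent.Lib.Lead.CohLES.Euler
import Groth.Agent.Lib.Lead.SC.CohDim
import Groth.Agent.Lib.Lead.PN.ClosedSub
import Groth.Prelude.Def_CurvBase

/-! # The Euler characteristic of coherent modules on a proper scheme over a field. -/

set_option autoImplicit false
universe u
open CategoryTheory Limits AlgebraicGeometry TopologicalSpace Opposite

namespace Groth.Agent.LD.Curve

open Groth.Agent.LD

variable (k : Type u) [Field k] (X : Scheme.{u}) [X.Over (Spec (CommRingCat.of k))]

/-- the Euler characteristic is a finite sum once the cohomology vanishes above degree `r`. -/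
theorem euler_eq_sum (F : X.Modules) (r : ℕ) (h : ∀ p, r < p → Subsingleton (Coh.HH X F p)) :
    Curv2.euler k X F =
      (Finset.range (r + 1)).sum fun j => (-1 : ℤ) ^ j * (Module.finrank k (Coh.HH X F j) : ℤ) := by
  unfold Curv2.euler
  refine finsum_eq_sum_of_support_subset _ ?_
  intro j hj
  rw [Function.mem_support] at hj
  rw [Finset.coe_range, Set.mem_Iio]
  by_contra hlt
  haveI := h j (by omega)
  exact hj (by rw [Module.finrank_zero_of_subsingleton]; simp)

lemma len_eq_finrank (V : Type u) [AddCommGroup V] [Module k V] [Module.Finite k V] :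
    Alg.len k V = (Module.finrank k V : ℤ) := by
  unfold Alg.len
  rw [Module.length_eq_finrank]
  rfl

section proper

variable [IsProper (X ↘ Spec (CommRingCat.of k))]

theorem finite_HH (F : X.Modules) (hF : Coh.IsCoh F) (i : ℕ) : Module.Finite k (Coh.HH X F i) :=
  Groth.Agent.S0002.result k X F hF i

include k in
lemma compactSpace : CompactSpace X :=
  QuasiCompact.compactSpace_of_compactSpace (X ↘ Spec (CommRingCat.of k))

include k in
lemma quasiSeparatedSpace : QuasiSeparatedSpace X :=
  quasiSeparatedSpace_of_quasiSeparated (X ↘ Spec (CommRingCat.of k))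

include k in
/-- uniform cohomological bound. -/
theorem exists_cohDim : ∃ d : ℕ, ∀ (M : X.Modules), M.IsQuasicoherent → ∀ p : ℕ, d ≤ p →
    Subsingleton (Coh.HH X M p) := by
  haveI := compactSpace k X
  haveI := quasiSeparatedSpace k X
  exact SC.exists_cohDim_of_qcqs X

theorem euler_eq_chiLE (F : X.Modules) (hF : Coh.IsCoh F) (r : ℕ)
    (h : ∀ p, r < p → Subsingleton (Coh.HH X F p)) :
    Curv2.euler k X F = CL.chiLE k F r := by
  rw [euler_eq_sum k X F r h]
  unfold CL.chiLE
  refine Finset.sum_congr rfl (fun j _ => ?_)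
  haveI := finite_HH k X F hF j
  rw [len_eq_finrank]

/-- **additivity of the Euler characteristic** (S1524). -/
theorem euler_add (S : ShortComplex X.Modules) (hS : S.ShortExact)
    (h₁ : Coh.IsCoh S.X₁) (h₂ : Coh.IsCoh S.X₂) (h₃ : Coh.IsCoh S.X₃) :
    Curv2.euler k X S.X₂ = Curv2.euler k X S.X₁ + Curv2.euler k X S.X₃ := by
  obtain ⟨d, hd⟩ := exists_cohDim k X
  rw [euler_eq_chiLE k X _ h₁ d (fun p hp => hd _ h₁.1 p hp.le),
    euler_eq_chiLE k X _ h₂ d (fun p hp => hd _ h₂.1 p hp.le),
    euler_eq_chiLE k X _ h₃ d (fun p hp => hd _ h₃.1 p hp.le)]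
  have fin : ∀ (F : X.Modules), Coh.IsCoh F → ∀ j, Module.length k (Coh.HH X F j) ≠ ⊤ := by
    intro F hF j
    haveI := finite_HH k X F hF j
    exact Module.length_ne_top
  exact CL.chiLE_add k hS d (fin _ h₁) (fin _ h₂) (fin _ h₃) (hd _ h₁.1 (d + 1) (by omega))

end proper

/-- isomorphic modules have the same Euler characteristic. -/
theorem euler_iso {F G : X.Modules} (e : F ≅ G) : Curv2.euler k X F = Curv2.euler k X G := by
  unfold Curv2.euler
  refine finsum_congr (fun j => ?_)
  rw [(CL.HHisoEquiv k e j).finrank_eq]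

/-- the zero module has Euler characteristic zero. -/
theorem euler_of_isZero {Z : X.Modules} (hZ : IsZero Z) : Curv2.euler k X Z = 0 := by
  unfold Curv2.euler
  rw [← finsum_zero (M := ℤ) (α := ℕ)]
  refine finsum_congr (fun j => ?_)
  haveI := CL.subsingleton_HH_of_isZero hZ j
  rw [Module.finrank_zero_of_subsingleton]
  simp

/-- isomorphic modules have the same degree. -/
theorem deg_iso {F G : X.Modules} (e : F ≅ G) (n : ℕ) : Curv2.deg k X F n = Curv2.deg k X G n := by
  unfold Curv2.deg
  rw [euler_iso k X e]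

end Groth.Agent.LD.Curve
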